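import Mathlib

/-!
Vaughan-Lee's theorem: a finite `p`-group of breadth `b` has derived subgroup of order at most
`p ^ (b (b + 1) / 2)`.  The proof is a joint induction on two statements about groups in which the elements
outside two proper subgroups have small breadth; the key point is that if `M` is maximal, `G = M ⟨y⟩`, and
`z ∈ M` has `[z, y] ∉ M'`, then the centralizer of `z` lies in `M`.
-/

set_option autoImplicit false

namespace Cfsg.Agent.GenA.VaughanLee

open Subgroup
open scoped commutatorElement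

universe u

variable {p : ℕ}

/-- `0, 1, 3, 6, …` -/
def f : ℕ → ℕ
  | 0 => 0
  | c + 1 => f c + (c + 1)

theorem f_eq : ∀ c, f c = c * (c + 1) / 2
  | 0 => rfl
  | c + 1 => by
    rw [f, f_eq c, show (c + 1) * (c + 1 + 1) = c * (c + 1) + 2 * (c + 1) by ring,
      Nat.add_mul_div_left _ _ (by norm_num : (0 : ℕ) < 2)]

variable {G : Type u} [Group G]

/-- The conjugacy class of `x` has at most `p ^ c` elements. -/
def Small (p : ℕ) (x : G) (c : ℕ) : Prop := (centralizer ({x} : Set G)).index ≤ p ^ c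

/-- The first statement of the induction. -/
def D1 (p c : ℕ) (G : Type u) [Group G] : Prop :=
  ∀ K U : Subgroup G, K ≠ ⊤ → U ≠ ⊤ → (U ≤ K ∨ p ≠ 2 ∨ 4 * Nat.card U ≤ Nat.card G) →
    (∀ x, x ∉ K → x ∉ U → Small p x c) → Nat.card (commutator G) ≤ p ^ f c

/-- The second statement of the induction. -/
def D2 (p c : ℕ) (G : Type u) [Group G] : Prop :=
  ∀ K U : Subgroup G, K ≠ ⊤ → U ≠ ⊤ → (∀ x, x ∉ K → Small p x (c + 1)) →
    (∀ x, x ∉ K → x ∉ U → Small p x c) → Nat.card (commutator G) * p ≤ p ^ f (c + 1)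

theorem exists_not_mem_two (A B : Subgroup G) (hA : A ≠ ⊤) (hB : B ≠ ⊤) : ∃ x, x ∉ A ∧ x ∉ B := by
  by_contra! h
  obtain ⟨a, -, ha⟩ := SetLike.exists_of_lt (lt_top_iff_ne_top.2 hA)
  obtain ⟨b, -, hb⟩ := SetLike.exists_of_lt (lt_top_iff_ne_top.2 hB)
  have haB := h a ha
  have hbA : b ∈ A := by
    by_contra hbA; exact hb (h b hbA)
  have hab : a * b ∉ A := fun hh => ha (by simpa using mul_mem hh (inv_mem hbA))
  exact hb (by simpa using mul_mem (inv_mem haB) (h _ hab))

theorem card_le_one_of_comm [Finite G] (h : ∀ x y : G, Commute x y) : Nat.card (commutator G) = 1 := by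
  rw [Subgroup.card_eq_one, eq_bot_iff, _root_.commutator_def, commutator_le]
  exact fun x _ y _ => mem_bot.2 (commutatorElement_eq_one_iff_mul_comm.2 (h x y))

theorem conj_comm₁ {H : Type*} [Group H] (Y A : H) : ⁅Y * A * Y⁻¹, Y⁆ = Y * ⁅A, Y⁆ * Y⁻¹ := by
  simp only [commutatorElement_def]; group

theorem conj_comm₂ {H : Type*} [Group H] (Y A : H) : ⁅Y⁻¹ * A * Y, Y⁆ = Y⁻¹ * ⁅A, Y⁆ * Y := by
  simp only [commutatorElement_def]; group

variable [Finite G] [hp : Fact p.Prime]

theorem coatom_facts (hG : IsPGroup p G) {M : Subgroup G} (hM : IsCoatom M) :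
    M.Normal ∧ M.index = p := by
  haveI := hG.isNilpotent
  haveI hn : M.Normal := NormalizerCondition.normal_of_coatom M Group.normalizerCondition_of_isNilpotent hM
  refine ⟨hn, ?_⟩
  obtain ⟨x, hx⟩ : ∃ x : G, x ∉ M := by
    by_contra! h; exact hM.1 (eq_top_iff.2 fun x _ => h x)
  haveI : Nontrivial (G ⧸ M) := ⟨⟨QuotientGroup.mk' M x, 1, fun h => hx ((QuotientGroup.eq_one_iff x).1 h)⟩⟩
  haveI : IsSimpleGroup (G ⧸ M) := by
    refine ⟨fun N _ => ?_⟩
    have h1 : M ≤ N.comap (QuotientGroup.mk' M) := fun y hy => by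
      rw [mem_comap, (QuotientGroup.eq_one_iff y).2 hy |> fun h => show QuotientGroup.mk' M y = 1 from h]
      exact one_mem N
    rcases hM.le_iff.1 h1 with h | h
    · right
      rw [← map_comap_eq_self_of_surjective (QuotientGroup.mk'_surjective M) N, h,
        map_top_of_surjective _ (QuotientGroup.mk'_surjective M)]
    · left
      rw [← map_comap_eq_self_of_surjective (QuotientGroup.mk'_surjective M) N, h, QuotientGroup.map_mk'_self]
  rw [index_eq_card]
  obtain ⟨k, hk⟩ := (hG.to_quotient M).exists_card_eq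
  have hcomm : ∀ a b : G ⧸ M, a * b = b * a := by
    intro a b
    haveI := (hG.to_quotient M).center_nontrivial
    rcases IsSimpleGroup.eq_bot_or_eq_top_of_normal (center (G ⧸ M)) inferInstance with h | h
    · exact absurd h (Subgroup.nontrivial_iff_ne_bot _ |>.1 inferInstance)
    · exact mem_center_iff.1 (h ▸ mem_top b) a
  letI : CommGroup (G ⧸ M) := { (inferInstance : Group (G ⧸ M)) with mul_comm := hcomm }
  have hpr := IsSimpleGroup.prime_card (α := G ⧸ M)
  rcases Nat.Prime.eq_one_of_pow (hk ▸ hpr) with rfl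
  rw [hk, pow_one]

theorem pick (hG : IsPGroup p G) (hna : ¬ ∀ x y : G, Commute x y) {K U : Subgroup G} (hK : K ≠ ⊤)
    (hU : U ≠ ⊤) : ∃ M K' : Subgroup G, IsCoatom M ∧ K ≤ K' ∧ ¬ M ≤ K' ∧
      (∀ x ∈ M, x ∉ K' → x ∉ U) ∧ (∃ y, y ∉ M ∧ y ∉ K) ∧
      ((U ≤ K ∨ p ≠ 2 ∨ 4 * Nat.card U ≤ Nat.card G) → ∃ y, y ∉ M ∧ y ∉ K ∧ y ∉ U) := by
  have hp2 := hp.out.two_le
  obtain ⟨K', hK', hKK'⟩ := (eq_top_or_exists_le_coatom K).resolve_left hK
  obtain ⟨W, hW, hUW⟩ := (eq_top_or_exists_le_coatom U).resolve_left hU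
  by_cases hUK : U ≤ K'
  · obtain ⟨x, hx, -⟩ := exists_not_mem_two K' K' hK'.1 hK'.1
    have hz : zpowers x ≠ ⊤ := fun h => hna fun a b => by
      obtain ⟨i, rfl⟩ := mem_zpowers_iff.1 (h ▸ mem_top a : a ∈ zpowers x)
      obtain ⟨j, rfl⟩ := mem_zpowers_iff.1 (h ▸ mem_top b : b ∈ zpowers x)
      exact Commute.zpow_zpow_self _ _ _
    obtain ⟨M, hM, hxM⟩ := (eq_top_or_exists_le_coatom (zpowers x)).resolve_left hz
    obtain ⟨y, hy1, hy2⟩ := exists_not_mem_two M K' hM.1 hK'.1
    exact ⟨M, K', hM, hKK', fun h => hx (h (hxM (mem_zpowers x))), fun z _ hz' h => hz' (hUK h),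
      ⟨y, hy1, fun h => hy2 (hKK' h)⟩, fun _ => ⟨y, hy1, fun h => hy2 (hKK' h), fun h => hy2 (hUK h)⟩⟩
  · have hKW : K' ≠ W := fun h => hUK (h ▸ hUW)
    obtain ⟨hKn, hKi⟩ := coatom_facts hG hK'
    obtain ⟨hWn, hWi⟩ := coatom_facts hG hW
    obtain ⟨x, hxK, hxW⟩ := exists_not_mem_two K' W hK'.1 hW.1
    set D := K' ⊓ W
    haveI : D.Normal := normal_inf_normal K' W
    have hDW : D.relIndex W = p := by
      rw [show D = K' ⊓ W from rfl, inf_relIndex_right]
      have h1 : K'.relIndex W ∣ K'.index := relIndex_dvd_index_of_normal K' W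
      rw [hKi] at h1
      refine ((Nat.dvd_prime hp.out).1 h1).resolve_left fun h => ?_
      rcases hK'.le_iff.1 (le_sup_left : K' ≤ K' ⊔ W) with h' | h'
      · exact hK'.1 (eq_top_iff.2 (h' ▸ sup_le le_rfl (relIndex_eq_one.1 h)))
      · exact hKW ((hW.le_iff_eq hK'.1).1 (h' ▸ le_sup_right))
    have hDi : D.index = p * p := by rw [← relIndex_mul_index (inf_le_right : D ≤ W), hDW, hWi]
    set q := QuotientGroup.mk' D
    set M := (zpowers (q x)).comap q
    have hxM : x ∈ M := mem_zpowers _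
    have hDM : D ≤ M := fun d hd => by
      rw [mem_comap, show q d = 1 from (QuotientGroup.eq_one_iff d).2 hd]; exact one_mem _
    have hxp : q x ^ p = 1 := by
      rw [← map_pow]
      refine (QuotientGroup.eq_one_iff _).2 ⟨?_, ?_⟩
      · exact (hKi ▸ pow_index_mem K' x :)
      · exact (hWi ▸ pow_index_mem W x :)
    have hord : orderOf (q x) = p := orderOf_eq_prime hxp fun h => hxK ((QuotientGroup.eq_one_iff x).1 h).1
    have hQ : Nat.card (G ⧸ D) = p * p := by rw [← index_eq_card, hDi]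
    have hMi : M.index = p := by
      rw [index_comap_of_surjective _ (QuotientGroup.mk'_surjective D)]
      have h1 := (zpowers (q x)).card_mul_index
      rw [Nat.card_zpowers, hord, hQ] at h1
      exact Nat.eq_of_mul_eq_mul_left hp.out.pos h1
    have hM : IsCoatom M := by
      refine ⟨fun h => ?_, fun N hN => ?_⟩
      · rw [h, index_top] at hMi; exact hp.out.ne_one hMi.symm
      · have h1 := relIndex_mul_index hN.le
        rw [hMi] at h1
        rcases (Nat.dvd_prime hp.out).1 (Dvd.intro_left _ h1) with h2 | h2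
        · exact index_eq_one.1 h2
        · rw [h2] at h1
          exact absurd (relIndex_eq_one.1 ((mul_eq_right₀ hp.out.ne_zero).1 h1)) hN.not_ge
    have hMW : ∀ z ∈ M, z ∈ W → z ∈ D := by
      intro z hz hzW
      rw [mem_comap] at hz
      obtain ⟨i, hi⟩ := mem_zpowers_iff.1 hz
      by_cases hdiv : (p : ℤ) ∣ i
      · obtain ⟨j, rfl⟩ := hdiv
        rw [zpow_mul, zpow_natCast, hxp, one_zpow] at hi
        exact (QuotientGroup.eq_one_iff z).1 hi.symm
      · obtain ⟨a, b, hab⟩ := (Prime.coprime_iff_not_dvd (Nat.prime_iff_prime_int.1 hp.out)).2 hdiv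
        have e : q x = q (z ^ b) := by
          rw [map_zpow, ← hi, ← zpow_mul]
          conv_lhs => rw [← zpow_one (q x), ← hab, zpow_add, mul_comm a, zpow_mul, zpow_natCast, hxp, one_zpow,
            one_mul, mul_comm b]
        have h3 : x⁻¹ * z ^ b ∈ D := QuotientGroup.eq.1 e
        have h4 := mul_mem (zpow_mem hzW b) (inv_mem h3.2)
        rw [mul_inv_rev, inv_inv, mul_inv_cancel_left] at h4
        exact absurd h4 hxW
    refine ⟨M, K', hM, hKK', fun h => hxK (h hxM), fun z hz hz' hzU => hz' (hMW z hz (hUW hzU)).1, ?_, fun hc => ?_⟩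
    · obtain ⟨y, hy1, hy2⟩ := exists_not_mem_two M K hM.1 hK
      exact ⟨y, hy1, hy2⟩
    · have hcM : Nat.card M * p = Nat.card G := hMi ▸ M.card_mul_index
      have hcK : Nat.card K' * p = Nat.card G := hKi ▸ K'.card_mul_index
      have hcD : Nat.card D * (p * p) = Nat.card G := hDi ▸ D.card_mul_index
      have hcU : Nat.card U * p ≤ Nat.card G := by
        have h9 := W.card_mul_index
        rw [hWi] at h9
        rw [← h9]; exact Nat.mul_le_mul_right p (card_le_of_le hUW)
      by_contra! hcon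
      have hcov : (M : Set G) ∪ K' ∪ U = Set.univ := Set.eq_univ_of_forall fun y => by
        by_cases h1 : y ∈ M
        · exact Or.inl (Or.inl h1)
        · by_cases h2 : y ∈ K
          · exact Or.inl (Or.inr (hKK' h2))
          · exact Or.inr (hcon y h1 h2)
      have e1 := Set.ncard_union_add_ncard_inter ((M : Set G) ∪ K') (U : Set G)
      have e2 := Set.ncard_union_add_ncard_inter (M : Set G) (K' : Set G)
      rw [hcov, Set.ncard_univ] at e1
      have i1 : 1 ≤ (((M : Set G) ∪ K') ∩ U).ncard :=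
        (Set.ncard_pos (Set.toFinite _)).2 ⟨1, Or.inl (one_mem M), one_mem U⟩
      have i2 : Nat.card D ≤ ((M : Set G) ∩ K').ncard := by
        rw [← SetLike.coe_sort_coe, Nat.card_coe_set_eq]
        exact Set.ncard_le_ncard fun d hd => ⟨hDM hd, hd.1⟩
      rw [← Nat.card_coe_set_eq (U : Set G), SetLike.coe_sort_coe] at e1
      rw [← Nat.card_coe_set_eq (M : Set G), ← Nat.card_coe_set_eq (K' : Set G), SetLike.coe_sort_coe,
        SetLike.coe_sort_coe] at e2
      rcases eq_or_ne p 2 with rfl | hp3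
      · have h4 : 4 * Nat.card U ≤ Nat.card G := by
          rcases hc with h | h | h
          · exact absurd (h.trans hKK') hUK
          · exact absurd rfl h
          · exact h
        omega
      · have hp3' : 3 ≤ p := by omega
        have hMle : 3 * Nat.card M ≤ Nat.card G := by rw [← hcM, mul_comm]; exact Nat.mul_le_mul_left _ hp3'
        have hKle : 3 * Nat.card K' ≤ Nat.card G := by rw [← hcK, mul_comm]; exact Nat.mul_le_mul_left _ hp3'
        have hUle : 3 * Nat.card U ≤ Nat.card G := le_trans (by rw [mul_comm]; exact Nat.mul_le_mul_left _ hp3') hcU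
        omega

theorem small_subgroup {M : Subgroup G} {z : M} {c : ℕ} (h : Small p (z : G) c) : Small p z c := by
  have e : centralizer ({z} : Set M) = (centralizer ({(z : G)} : Set G)).subgroupOf M := by
    ext w; simp [mem_subgroupOf, mem_centralizer_singleton_iff, Subtype.ext_iff]
  show (centralizer ({z} : Set M)).index ≤ p ^ c
  rw [e]
  exact le_trans (le_of_le_of_eq (relIndex_le_of_le_right le_top (by rw [relIndex_top_right]; exact index_ne_zero_of_finite))
    (relIndex_top_right _)) h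

/-- The analysis of one maximal subgroup `M` and one element `y` outside it. -/
theorem split (hG : IsPGroup p G) {M : Subgroup G} (hM : IsCoatom M) {y : G} (hy : y ∉ M) :
    ∃ (U : Subgroup M) (i : ℕ), U.index = p ^ i ∧ Nat.card (commutator G) ≤ Nat.card (commutator M) * p ^ i ∧
      p ^ i ≤ (centralizer ({y} : Set G)).index ∧
      ∀ z : M, z ∉ U → (centralizer ({z} : Set M)).index * p ≤ (centralizer ({(z : G)} : Set G)).index := by
  obtain ⟨hMn, hMi⟩ := coatom_facts hG hM
  set N := ⁅M, M⁆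
  set q := QuotientGroup.mk' N
  set B := M.map q
  have hB : ∀ a ∈ B, ∀ b ∈ B, a * b = b * a := by
    rintro _ ⟨a, ha, rfl⟩ _ ⟨b, hb, rfl⟩
    rw [← commutatorElement_eq_one_iff_mul_comm, ← map_commutatorElement]
    exact (QuotientGroup.eq_one_iff _).2 (commutator_mem_commutator ha hb)
  haveI hBn : B.Normal := hMn.map q (QuotientGroup.mk'_surjective N)
  have hcB : ∀ a ∈ B, ∀ c, ⁅a, c⁆ ∈ B := fun a ha c => by
    rw [commutatorElement_def, mul_assoc a c, mul_assoc a]
    exact mul_mem ha (hBn.conj_mem _ (inv_mem ha) c)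
  let φ : M →* G ⧸ N :=
    { toFun := fun m => ⁅q (m : G), q y⁆
      map_one' := by simp
      map_mul' := fun a b => by
        have ha : q (a : G) ∈ B := mem_map_of_mem q a.2
        have hb : q (b : G) ∈ B := mem_map_of_mem q b.2
        have e : ⁅q (a : G) * q (b : G), q y⁆ = q (a : G) * ⁅q (b : G), q y⁆ * (q (a : G))⁻¹ * ⁅q (a : G), q y⁆ := by
          simp only [commutatorElement_def]; group
        rw [Subgroup.coe_mul, map_mul, e, hB _ ha _ (hcB _ hb _), mul_inv_cancel_right,
          hB _ (hcB _ hb _) _ (hcB _ ha _)] }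
  have hR : ∀ r, r ∈ φ.range → r ∈ B := by
    rintro _ ⟨m, rfl⟩; exact hcB _ (mem_map_of_mem q m.2) _
  have htop : ∀ K : Subgroup (G ⧸ N), B ≤ K → q y ∈ K → K = ⊤ := by
    intro K h1 h2
    have h : M ≤ K.comap q := fun m hm => h1 (mem_map_of_mem q hm)
    rcases hM.le_iff.1 h with h' | h'
    · rw [← map_comap_eq_self_of_surjective (QuotientGroup.mk'_surjective N) K, h',
        map_top_of_surjective _ (QuotientGroup.mk'_surjective N)]
    · exact absurd (h' ▸ (h2 : y ∈ K.comap q)) hy
  haveI hRn : φ.range.Normal := by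
    refine normalizer_eq_top_iff.1 (htop _ (fun b hb => ?_) ?_)
    · rw [mem_normalizer_iff]
      refine fun r => ⟨fun hr => ?_, fun hr => ?_⟩
      · rwa [hB b hb r (hR r hr), mul_inv_cancel_right]
      · have hr' : r ∈ B := by
          have := mul_mem (mul_mem (inv_mem hb) (hR _ hr)) hb
          simpa [mul_assoc] using this
        rwa [hB b hb r hr', mul_inv_cancel_right] at hr
    · rw [mem_normalizer_iff]
      refine fun r => ⟨?_, ?_⟩
      · rintro ⟨m, rfl⟩
        refine ⟨⟨y * m * y⁻¹, hMn.conj_mem _ m.2 y⟩, ?_⟩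
        show ⁅q (y * m * y⁻¹), q y⁆ = q y * ⁅q (m : G), q y⁆ * (q y)⁻¹
        rw [map_mul, map_mul, map_inv]; exact conj_comm₁ (q y) (q (m : G))
      · rintro ⟨m, hm⟩
        refine ⟨⟨y⁻¹ * m * y, by simpa using hMn.conj_mem _ m.2 y⁻¹⟩, ?_⟩
        show ⁅q (y⁻¹ * m * y), q y⁆ = r
        have e : r = (q y)⁻¹ * (q y * r * (q y)⁻¹) * q y := by group
        rw [e, ← hm]
        show _ = (q y)⁻¹ * ⁅q (m : G), q y⁆ * q y
        rw [map_mul, map_mul, map_inv]; exact conj_comm₂ (q y) (q (m : G))
  have hcomm : ∀ a b : G ⧸ N, ⁅a, b⁆ ∈ φ.range := by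
    have hC : ∀ a : G ⧸ N, ∃ C : Subgroup (G ⧸ N), ∀ x, x ∈ C ↔ ⁅a, x⁆ ∈ φ.range := fun a => by
      refine ⟨(centralizer {QuotientGroup.mk' φ.range a}).comap (QuotientGroup.mk' φ.range), fun x => ?_⟩
      rw [mem_comap, mem_centralizer_singleton_iff, ← QuotientGroup.eq_one_iff (N := φ.range),
        ← QuotientGroup.mk'_apply, map_commutatorElement, commutatorElement_eq_one_iff_mul_comm]
      exact eq_comm
    have h1 : ∀ a ∈ B, ∀ x, ⁅a, x⁆ ∈ φ.range := fun a ha x => by
      obtain ⟨C, hC⟩ := hC a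
      refine (hC x).1 ((htop C (fun b hb => (hC b).2 ?_) ((hC _).2 ?_)) ▸ mem_top x)
      · rw [commutatorElement_eq_one_iff_mul_comm.2 (hB a ha b hb)]; exact one_mem _
      · obtain ⟨m, hm, rfl⟩ := ha
        exact ⟨⟨m, hm⟩, rfl⟩
    have h2 : ∀ x, ⁅q y, x⁆ ∈ φ.range := fun x => by
      obtain ⟨C, hC⟩ := hC (q y)
      refine (hC x).1 ((htop C (fun b hb => (hC b).2 ?_) ((hC _).2 ?_)) ▸ mem_top x)
      · rw [← commutatorElement_inv]; exact inv_mem (h1 b hb _)
      · rw [commutatorElement_self]; exact one_mem _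
    intro a b
    obtain ⟨C, hC⟩ := hC a
    refine (hC b).1 ((htop C (fun c hc => (hC c).2 ?_) ((hC _).2 ?_)) ▸ mem_top b)
    · rw [← commutatorElement_inv]; exact inv_mem (h1 c hc _)
    · rw [← commutatorElement_inv]; exact inv_mem (h2 _)
  obtain ⟨i, hi⟩ := (hG.to_subgroup M).index φ.ker
  have hcardR : Nat.card φ.range = p ^ i := by rw [← hi, index_ker]
  refine ⟨φ.ker, i, hi, ?_, ?_, ?_⟩
  · have hle : commutator G ≤ φ.range.comap q := by
      rw [_root_.commutator_def, commutator_le]
      intro a _ b _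
      rw [mem_comap, map_commutatorElement]; exact hcomm _ _
    refine (card_le_of_le hle).trans (le_of_eq ?_)
    have e1 : (φ.range.comap q).index = φ.range.index :=
      index_comap_of_surjective _ (QuotientGroup.mk'_surjective N)
    have e2 := (φ.range.comap q).card_mul_index
    rw [e1, N.card_eq_card_quotient_mul_card_subgroup, ← φ.range.card_mul_index] at e2
    have e3 : Nat.card N = Nat.card (commutator M) := by
      show Nat.card ↥⁅M, M⁆ = _
      rw [← map_subtype_commutator M, card_map_of_injective M.subtype_injective]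
    rw [← hcardR, ← e3]
    refine Nat.eq_of_mul_eq_mul_right (Nat.pos_of_ne_zero (index_ne_zero_of_finite (H := φ.range))) ?_
    rw [e2]; ring
  · rw [← hi]
    refine le_trans (Nat.le_of_dvd (Nat.pos_of_ne_zero index_ne_zero_of_finite) (index_dvd_of_le
      (show (centralizer ({y} : Set G)).subgroupOf M ≤ φ.ker from fun m hm => ?_))) ?_
    · rw [mem_subgroupOf, mem_centralizer_singleton_iff] at hm
      show ⁅q (m : G), q y⁆ = 1
      rw [← map_commutatorElement, commutatorElement_eq_one_iff_mul_comm.2 hm, map_one]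
    · exact le_of_le_of_eq (relIndex_le_of_le_right le_top (by rw [relIndex_top_right]; exact index_ne_zero_of_finite))
        (relIndex_top_right _)
  · intro z hz
    have hCM : centralizer ({(z : G)} : Set G) ≤ M := by
      intro g hg
      by_contra hgM
      refine hz ?_
      rw [mem_centralizer_singleton_iff] at hg
      show ⁅q (z : G), q y⁆ = 1
      obtain ⟨C, hC⟩ : ∃ C : Subgroup G, ∀ x, x ∈ C ↔ ⁅q (z : G), q x⁆ = 1 :=
        ⟨(centralizer {q (z : G)}).comap q, fun x => by
          rw [mem_comap, mem_centralizer_singleton_iff, commutatorElement_eq_one_iff_mul_comm]; exact eq_comm⟩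
      have hCtop : C = ⊤ := by
        have hMC : M ≤ C := fun m hm => (hC m).2 (by
          rw [← map_commutatorElement]
          exact (QuotientGroup.eq_one_iff _).2 (commutator_mem_commutator z.2 hm))
        rcases hM.le_iff.1 hMC with h | h
        · exact h
        · exact absurd (h ▸ (hC g).2 (by rw [← map_commutatorElement, commutatorElement_eq_one_iff_mul_comm.2 hg.symm, map_one])) hgM
      exact (hC y).1 (hCtop ▸ mem_top y)
    have e : centralizer ({z} : Set M) = (centralizer ({(z : G)} : Set G)).subgroupOf M := by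
      ext w; simp [mem_subgroupOf, mem_centralizer_singleton_iff, Subtype.ext_iff]
    rw [e, ← relIndex_mul_index hCM, hMi]
    rfl

omit [Finite G] in
theorem small_mono {x : G} {c d : ℕ} (h : c ≤ d) (hx : Small p x c) : Small p x d :=
  le_trans hx (Nat.pow_le_pow_right hp.out.pos h)

/-- The base of the induction. -/
theorem base (hG : IsPGroup p G) {K U : Subgroup G} (hK : K ≠ ⊤) (hU : U ≠ ⊤)
    (h : ∀ x, x ∉ K → x ∉ U → Small p x 0) : Nat.card (commutator G) = 1 := by
  refine card_le_one_of_comm ?_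
  by_contra hna
  obtain ⟨M, K', hM, hKK', hMK, hMU, -, -⟩ := pick hG hna hK hU
  have hc : ∀ x ∈ M, x ∈ center G := by
    have h1 : ∀ x ∈ M, x ∉ K' → x ∈ center G := fun x hx hx' => by
      have h2 := h x (fun hh => hx' (hKK' hh)) (hMU x hx hx')
      rw [Small, pow_zero] at h2
      have h3 : centralizer ({x} : Set G) = ⊤ :=
        index_eq_one.1 (le_antisymm h2 (Nat.one_le_iff_ne_zero.2 index_ne_zero_of_finite))
      exact mem_center_iff.2 fun g => mem_centralizer_singleton_iff.1 (h3 ▸ mem_top g)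
    intro x hx
    by_cases hx' : x ∈ K'
    · obtain ⟨m, hm, hm'⟩ := SetLike.not_le_iff_exists.1 hMK
      have h2 : x * m ∉ K' := fun hh => hm' (by simpa using mul_mem (inv_mem hx') hh)
      simpa using mul_mem (h1 _ (mul_mem hx hm) h2) (inv_mem (h1 m hm hm'))
    · exact h1 x hx hx'
  obtain ⟨y, hy⟩ : ∃ y, y ∉ M := by
    by_contra! hh; exact hM.1 (eq_top_iff.2 fun x _ => hh x)
  have hall : ∀ a : G, ∀ b : G, (∀ m ∈ M, Commute a m) → Commute a y → Commute a b := by
    intro a b h1 h2
    have h3 : centralizer ({a} : Set G) = ⊤ := by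
      have hle : M ≤ centralizer ({a} : Set G) := fun m hm => mem_centralizer_singleton_iff.2 (h1 m hm).eq.symm
      rcases hM.le_iff.1 hle with h' | h'
      · exact h'
      · exact absurd (h' ▸ (mem_centralizer_singleton_iff.2 h2.eq.symm : y ∈ centralizer ({a} : Set G))) hy
    exact (mem_centralizer_singleton_iff.1 (h3 ▸ mem_top b)).symm
  refine hna fun a b => hall a b (fun m hm => mem_center_iff.1 (hc m hm) a) ?_
  exact (hall y a (fun m hm => mem_center_iff.1 (hc m hm) y) (Commute.refl y)).symm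

/-- One step of the induction. -/
theorem step (hG : IsPGroup p G) (c d : ℕ) {M K' : Subgroup G} (hM : IsCoatom M) (hMK : ¬ M ≤ K')
    (hgood : ∀ x ∈ M, x ∉ K' → Small p x (c + 1)) {y : G} (hy : y ∉ M) (hyd : Small p y d)
    (h1 : D1 p c M) (h2 : D2 p c M) (h3 : D1 p (c + 1) M) :
    Nat.card (commutator G) ≤ p ^ max (f (c + 1)) (f c + d) := by
  obtain ⟨U, i, hUi, hcard, hi, hdrop⟩ := split hG hM hy
  have hM0 : K'.subgroupOf M ≠ ⊤ := fun h => hMK fun m hm => by
    have := h ▸ mem_top (⟨m, hm⟩ : M); exact this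
  have hgood' : ∀ z : M, z ∉ K'.subgroupOf M → Small p z (c + 1) := fun z hz =>
    small_subgroup (hgood z z.2 hz)
  have hgood'' : ∀ z : M, z ∉ K'.subgroupOf M → z ∉ U → Small p z c := fun z hz hzU => by
    have h4 := (hdrop z hzU).trans (hgood z z.2 hz)
    rw [pow_succ] at h4
    exact Nat.le_of_mul_le_mul_right h4 hp.out.pos
  refine hcard.trans ?_
  rcases Nat.lt_or_ge i 1 with hi0 | hi1
  · rw [show i = 0 by omega, pow_zero, mul_one]
    exact (h3 _ _ hM0 hM0 (Or.inl le_rfl) fun z hz _ => hgood' z hz).trans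
      (Nat.pow_le_pow_right hp.out.pos (le_max_left _ _))
  · have hUtop : U ≠ ⊤ := fun h => by
      rw [h, index_top] at hUi
      exact absurd hUi.symm (Nat.one_lt_pow (by omega) hp.out.one_lt).ne'
    by_cases hex : p = 2 ∧ i = 1
    · refine le_trans ?_ (Nat.pow_le_pow_right hp.out.pos (le_max_left _ _))
      rw [hex.2, pow_one]
      exact h2 _ _ hM0 hUtop hgood' hgood''
    · refine le_trans ?_ (Nat.pow_le_pow_right hp.out.pos (le_max_right _ _))
      rw [pow_add]
      refine Nat.mul_le_mul (h1 _ _ hM0 hUtop (Or.inr ?_) hgood'') (hi.trans hyd)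
      by_cases hp3 : p = 2
      · right
        rw [← U.card_mul_index, hUi, hp3, mul_comm (Nat.card U)]
        refine Nat.mul_le_mul_right _ ?_
        calc (4 : ℕ) = 2 ^ 2 := by norm_num
          _ ≤ 2 ^ i := Nat.pow_le_pow_right (by norm_num) (by
            by_contra; exact hex ⟨hp3, by omega⟩)
      · exact Or.inl hp3

omit [Finite G] in
theorem f_mono {c : ℕ} : f c + (c + 1) = f (c + 1) := rfl

end Cfsg.Agent.GenA.VaughanLee

namespace Cfsg.Agent.GenA.VaughanLee

open Subgroup

universe u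

variable {p : ℕ} [hp : Fact p.Prime]

theorem both : ∀ (c : ℕ) (G : Type u) [Group G] [Finite G], IsPGroup p G → D1 p c G ∧ D2 p c G := by
  intro c
  induction c with
  | zero =>
    intro G _ _ hG
    refine ⟨fun K U hK hU _ h => ?_, fun K U hK hU _ h => ?_⟩
    · rw [base hG hK hU h]; exact Nat.one_le_pow _ _ hp.out.pos
    · rw [base hG hK hU h, one_mul]; exact le_of_eq (pow_one p).symm
  | succ c ih =>
    suffices H : ∀ (n : ℕ) (G : Type u) [Group G] [Finite G], Nat.card G ≤ n → IsPGroup p G →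
        D1 p (c + 1) G ∧ D2 p (c + 1) G from fun G _ _ hG => H _ G le_rfl hG
    intro n
    induction n with
    | zero => intro G _ _ hn _; exact absurd hn (Nat.not_le.2 Nat.card_pos)
    | succ n ihn =>
      intro G _ _ hn hG
      have hsub : ∀ M : Subgroup G, IsCoatom M → D1 p c M ∧ D2 p c M ∧ D1 p (c + 1) M := by
        intro M hM
        have hlt : Nat.card M < Nat.card G := by
          refine lt_of_le_of_ne (card_le_card_group M) fun h => hM.1 (eq_top_of_card_eq M h)
        exact ⟨(ih M (hG.to_subgroup M)).1, (ih M (hG.to_subgroup M)).2,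
          (ihn M (by omega) (hG.to_subgroup M)).1⟩
      refine ⟨fun K U hK hU hcond h => ?_, fun K U hK hU hK2 h => ?_⟩
      · by_cases hna : ∀ x y : G, Commute x y
        · rw [card_le_one_of_comm hna]; exact Nat.one_le_pow _ _ hp.out.pos
        obtain ⟨M, K', hM, hKK', hMK, hMU, -, hex⟩ := pick hG hna hK hU
        obtain ⟨y, hy, hyK, hyU⟩ := hex hcond
        obtain ⟨h1, h2, h3⟩ := hsub M hM
        have := step hG c (c + 1) hM hMK
          (fun x hx hx' => h x (fun hh => hx' (hKK' hh)) (hMU x hx hx')) hy (h y hyK hyU) h1 h2 h3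
        rwa [f_mono, max_self] at this
      · by_cases hna : ∀ x y : G, Commute x y
        · rw [card_le_one_of_comm hna, one_mul]
          exact Nat.le_self_pow (by rw [← f_mono]; omega) p
        obtain ⟨M, K', hM, hKK', hMK, hMU, ⟨y, hy, hyK⟩, -⟩ := pick hG hna hK hU
        obtain ⟨h1, h2, h3⟩ := hsub M hM
        have := step hG c (c + 1 + 1) hM hMK
          (fun x hx hx' => h x (fun hh => hx' (hKK' hh)) (hMU x hx hx')) hy (hK2 y hyK) h1 h2 h3
        refine (Nat.mul_le_mul_right p this).trans ?_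
        rw [← pow_succ]
        refine Nat.pow_le_pow_right hp.out.pos ?_
        have e1 : f (c + 1 + 1) = f (c + 1) + (c + 1 + 1) := rfl
        have e2 : f (c + 1) = f c + (c + 1) := rfl
        omega

/-- **Vaughan-Lee.** -/
theorem card_commutator_le {G : Type u} [Group G] [Finite G] (hG : IsPGroup p G) (b : ℕ)
    (hb : ∀ x : G, (centralizer ({x} : Set G)).index ≤ p ^ b) :
    Nat.card (commutator G) ≤ p ^ (b * (b + 1) / 2) := by
  rw [← f_eq]
  by_cases h : (⊥ : Subgroup G) = ⊤
  · have h1 : ∀ x y : G, Commute x y := fun x y => by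
      have hx : x = 1 := mem_bot.1 (h ▸ mem_top x)
      rw [hx]; exact Commute.one_left y
    rw [card_le_one_of_comm h1]; exact Nat.one_le_pow _ _ hp.out.pos
  · exact (both b G hG).1 ⊥ ⊥ h h (Or.inl le_rfl) fun x _ _ => hb x

end Cfsg.Agent.GenA.VaughanLee
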